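import Groth.Agent.Lib.RpushCoprod13.Main
import Mathlib.Algebra.Homology.DerivedCategory.TStructure
import Groth.Prelude.Def_DEt2

/-!
# The derived direct image preserves coproducts of uniformly bounded below families
-/

set_option autoImplicit false
set_option backward.isDefEq.respectTransparency false
set_option linter.style.haveILetI false

universe u

open CategoryTheory CategoryTheory.Limits AlgebraicGeometry Opposite
open GrothLib.GrothSS GrothLib.CohDer19
attribute [local instance] HasDerivedCategory.standard

noncomputable section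

namespace GrothLib.RpushCoprod13

variable {X S : Scheme.{u}}

theorem preservesColimit_RpushEt_of_bdd (f : X ⟶ S) [QuasiCompact f] [QuasiSeparated f]
    [DCoh.HasRpushEt X f] {ι : Type (u + 1)} (K : ι → DerivedCategory (EtCoh.Ab X)) (a : ℤ)
    (hb : ∀ i, ∀ n : ℤ, n < a → IsZero ((DerivedCategory.homologyFunctor (EtCoh.Ab X) n).obj (K i))) :
    PreservesColimit (Discrete.functor K) (DCoh.RpushEt X f) := by
  haveI := preservesCoproducts_push f ι
  haveI : PreservesColimitsOfShape (Discrete ι)
      ((EtCoh.push f).mapHomologicalComplex (ComplexShape.up ℤ)) :=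
    CohDer19.preservesColimitsOfShape_mapHomologicalComplex _ _
  have hrep : ∀ j, ∃ I : CochainComplex (EtCoh.Ab X) ℤ, I.IsStrictlyGE a ∧ (∀ n, Injective (I.X n)) ∧
      Nonempty (DerivedCategory.Q.obj I ≅ K j) := fun j => by
    haveI : (K j).IsGE a := (DerivedCategory.isGE_iff (K j) a).2 fun n hn => hb j n hn
    obtain ⟨C, hC, ⟨e⟩⟩ := DerivedCategory.exists_iso_Q_obj_of_isGE (K j) a
    haveI := hC
    obtain ⟨L, hL, i, hi⟩ := CochainComplex.Plus.exists_quasiIso_injective
      (⟨C, a, inferInstance⟩ : CochainComplex.Plus (EtCoh.Ab X)) a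
    let M := (InjectiveObject.ι (EtCoh.Ab X)).mapCochainComplexPlus.obj L
    haveI : QuasiIso i.hom := hi
    refine ⟨M.obj, ?_, fun n => inferInstanceAs (Injective ((InjectiveObject.ι (EtCoh.Ab X)).obj (L.obj.X n))),
      ⟨(asIso (DerivedCategory.Q.map i.hom)).symm ≪≫ e.symm⟩⟩
    exact inferInstanceAs (CochainComplex.IsStrictlyGE
      (((InjectiveObject.ι (EtCoh.Ab X)).mapHomologicalComplex (ComplexShape.up ℤ)).obj L.obj) a)
  choose I hI hinj e using hrep
  let c : Cofan I := Cofan.mk (∐ I) (Sigma.ι I)
  let hc : IsColimit c := coproductIsCoproduct I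
  let q := HomotopyCategory.quotient (EtCoh.Ab X) (ComplexShape.up ℤ)
  let M := (EtCoh.push f).mapHomologicalComplex (ComplexShape.up ℤ)
  let U := (DCoh.pushEtKh X f).totalRightDerivedUnit DerivedCategory.Qh
    (HomotopyCategory.quasiIso (EtCoh.Ab X) (ComplexShape.up ℤ))
  let α : M ⋙ DerivedCategory.Q ≅ q ⋙ DCoh.pushEtKh X f :=
    Functor.isoWhiskerLeft M (DerivedCategory.quotientCompQhIso _).symm ≪≫
      (Functor.associator _ _ _).symm ≪≫
        Functor.isoWhiskerRight ((EtCoh.push f).mapHomotopyCategoryFactors (ComplexShape.up ℤ)).symm _ ≪≫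
          Functor.associator _ _ _
  let τ : M ⋙ DerivedCategory.Q ⟶ DerivedCategory.Q ⋙ DCoh.RpushEt X f :=
    α.hom ≫ Functor.whiskerLeft q U ≫
      (Functor.associator _ _ _).inv ≫
        Functor.whiskerRight (DerivedCategory.quotientCompQhIso _).hom (DCoh.RpushEt X f)
  have hτ : ∀ L : CochainComplex (EtCoh.Ab X) ℤ, CohDer19.Good.IsGood (EtCoh.push f) (q.obj L) →
      IsIso (τ.app L) := fun L hL => by
    haveI : IsIso (U.app (q.obj L)) := (CohDer19.Good.good_iff (EtCoh.push f) _).1 hL
    show IsIso (α.hom.app L ≫ U.app (q.obj L) ≫ 𝟙 _ ≫ (DCoh.RpushEt X f).map _)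
    infer_instance
  have hgI : ∀ j, CohDer19.Good.IsGood (EtCoh.push f) (q.obj (I j)) := fun j => by
    haveI := hI j
    haveI := hinj j
    haveI := CochainComplex.isKInjective_of_injective (I j) a
    exact CohDer19.Good.good_of_rightOrthogonal _ (CochainComplex.IsKInjective.rightOrthogonal (I j))
  have hgL : CohDer19.Good.IsGood (EtCoh.push f) (q.obj (∐ I)) := by
    haveI hLGE : (∐ I).IsStrictlyGE a := by
      rw [CochainComplex.isStrictlyGE_iff]
      intro n hn
      refine IsZero.of_iso ?_
        (PreservesCoproduct.iso (HomologicalComplex.eval (EtCoh.Ab X) (ComplexShape.up ℤ) n) I)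
      refine (IsZero.iff_id_eq_zero _).2 (Sigma.hom_ext _ _ fun j => ?_)
      haveI := hI j
      exact ((I j).isZero_of_isStrictlyGE a n hn).eq_of_src _ _
    obtain ⟨L, hL, s', hs'⟩ := CochainComplex.Plus.exists_quasiIso_injective
      (⟨∐ I, a, inferInstance⟩ : CochainComplex.Plus (EtCoh.Ab X)) a
    let J := ((InjectiveObject.ι (EtCoh.Ab X)).mapCochainComplexPlus.obj L).obj
    let s : (∐ I) ⟶ J := s'.hom
    haveI : QuasiIso s := hs'
    haveI : J.IsStrictlyGE a := inferInstanceAs (CochainComplex.IsStrictlyGE
      (((InjectiveObject.ι (EtCoh.Ab X)).mapHomologicalComplex (ComplexShape.up ℤ)).obj L.obj) a)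
    have hJinj : ∀ n, Injective (J.X n) := fun n =>
      inferInstanceAs (Injective ((InjectiveObject.ι (EtCoh.Ab X)).obj (L.obj.X n)))
    haveI : J.IsKInjective := CochainComplex.isKInjective_of_injective J a
    haveI hq : QuasiIso (M.map s) := by
      rw [DerCat.quasiIso_iff_acyclic_mappingCone]
      refine DerCat.acyclic_of_iso (CochainComplex.mappingCone.mapHomologicalComplexIso s (EtCoh.push f)) ?_
      intro n
      rw [HomologicalComplex.exactAt_iff]
      refine exact_of_affine_sections _ fun U hU => ?_
      haveI := hU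
      obtain ⟨h1, h2⟩ := qcqs_bc f U
      let V := (EtCoh.bc f).obj U
      have hqV := GrothSS.quasiIso_map (sectA X V) s a
        (fun i => isAcyclicObj_of_iso _
          (PreservesCoproduct.iso (HomologicalComplex.eval (EtCoh.Ab X) (ComplexShape.up ℤ) i) I).symm
          (isAcyclicObj_sigma ι V (fun j => (I j).X i) fun j => hinj j _))
        (fun i => haveI := hJinj i; isAcyclicObj_of_injective _ _)
      have hac := DerCat.acyclic_of_iso (CochainComplex.mappingCone.mapHomologicalComplexIso s (sectA X V)).symm
        ((DerCat.quasiIso_iff_acyclic_mappingCone _).1 hqV)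
      exact (HomologicalComplex.exactAt_iff _ _).1 (hac n)
    haveI : IsIso (DerivedCategory.Qh.map (q.map s)) :=
      (NatIso.isIso_map_iff (DerivedCategory.quotientCompQhIso (EtCoh.Ab X)) s).2 inferInstance
    haveI : IsIso ((CohDer19.Good.mapD (EtCoh.push f)).map (q.map s)) :=
      (NatIso.isIso_map_iff (DerivedCategory.quotientCompQhIso (EtCoh.Ab S)) (M.map s)).2 inferInstance
    exact (CohDer19.Good.good_iff_of_isIso _ (q.map s)).2
      (CohDer19.Good.good_of_rightOrthogonal _ (CochainComplex.IsKInjective.rightOrthogonal J))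
  have hQ : IsColimit (DerivedCategory.Q.mapCocone c) := isColimitOfPreserves _ hc
  obtain ⟨hR⟩ := isColimit_of_isIso_app τ c
    ⟨isColimitOfPreserves DerivedCategory.Q (isColimitOfPreserves M hc)⟩
    (fun j => hτ _ (hgI j.as)) (hτ _ hgL)
  haveI : PreservesColimit (Discrete.functor I ⋙ DerivedCategory.Q) (DCoh.RpushEt X f) :=
    preservesColimit_of_preserves_colimit_cocone hQ hR
  exact preservesColimit_of_iso_diagram (K₁ := Discrete.functor I ⋙ DerivedCategory.Q) _
    (Discrete.natIso fun j => (e j.as).some)

/-- An exact functor preserving coproducts preserves them on derived categories. -/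
theorem preservesColimitsOfShape_mapDerivedCategory {Z : Scheme.{u}} (F : EtCoh.Ab X ⥤ EtCoh.Ab Z)
    [F.Additive] [PreservesFiniteLimits F] [PreservesFiniteColimits F] (ι : Type (u + 1))
    [PreservesColimitsOfShape (Discrete ι) F] :
    PreservesColimitsOfShape (Discrete ι) F.mapDerivedCategory := by
  haveI : PreservesColimitsOfShape (Discrete ι) (F.mapHomologicalComplex (ComplexShape.up ℤ)) :=
    CohDer19.preservesColimitsOfShape_mapHomologicalComplex _ _
  have hob : ∀ K : ι → DerivedCategory (EtCoh.Ab X),
      PreservesColimit (Discrete.functor K) F.mapDerivedCategory := fun K => by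
    let I : ι → CochainComplex (EtCoh.Ab X) ℤ := fun j => DerivedCategory.Q.objPreimage (K j)
    let c : Cofan I := Cofan.mk (∐ I) (Sigma.ι I)
    let hc : IsColimit c := coproductIsCoproduct I
    obtain ⟨hR⟩ := isColimit_of_isIso_app F.mapDerivedCategoryFactors.inv c
      ⟨isColimitOfPreserves DerivedCategory.Q
        (isColimitOfPreserves (F.mapHomologicalComplex (ComplexShape.up ℤ)) hc)⟩
      (fun j => inferInstance) inferInstance
    haveI : PreservesColimit (Discrete.functor I ⋙ DerivedCategory.Q) F.mapDerivedCategory :=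
      preservesColimit_of_preserves_colimit_cocone (isColimitOfPreserves DerivedCategory.Q hc) hR
    exact preservesColimit_of_iso_diagram (K₁ := Discrete.functor I ⋙ DerivedCategory.Q) _
      (Discrete.natIso fun j => DerivedCategory.Q.objObjPreimageIso (K j.as))
  exact preservesColimitsOfShape_of_discrete _

end GrothLib.RpushCoprod13
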