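import Groth.Agent.Lib.RpushCoprod13.Sect
import Groth.Agent.Lib.DerCat.HomologyCoproduct
import Groth.Agent.Lib.HoCat.DerivedCoproduct
import Mathlib.CategoryTheory.Limits.Constructions.Filtered
import Mathlib.CategoryTheory.Abelian.GrothendieckAxioms.Colim
import Groth.Prelude.Def_DCoh2

/-!
# The derived direct image preserves coproducts under finite cohomological dimension
-/

set_option autoImplicit false
set_option backward.isDefEq.respectTransparency false
set_option linter.style.haveILetI false

universe u

open CategoryTheory CategoryTheory.Limits AlgebraicGeometry Opposite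
open GrothLib.GrothSS GrothLib.CohDer19
attribute [local instance] HasDerivedCategory.standard

noncomputable section

namespace GrothLib.RpushCoprod13

variable {X S : Scheme.{u}} (f : X ⟶ S)

/-- Sections of a direct image. -/
abbrev pushSectIso (U : S.Etale) : EtCoh.push f ⋙ sectA S U ≅ sectA X ((EtCoh.bc f).obj U) :=
  Iso.refl _

theorem qcqs_bc [QuasiCompact f] [QuasiSeparated f] (U : S.Etale) [CompactSpace ↥U.left]
    [QuasiSeparatedSpace ↥U.left] :
    CompactSpace ↥((EtCoh.bc f).obj U).left ∧ QuasiSeparatedSpace ↥((EtCoh.bc f).obj U).left :=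
  haveI : CompactSpace ↥((𝟭 Scheme.{u}).obj U.left) := inferInstanceAs (CompactSpace ↥U.left)
  haveI : QuasiSeparatedSpace ↥((𝟭 Scheme.{u}).obj U.left) := inferInstanceAs (QuasiSeparatedSpace ↥U.left)
  ⟨QuasiCompact.compactSpace_of_compactSpace (pullback.fst U.hom f),
    quasiSeparatedSpace_of_quasiSeparated (pullback.fst U.hom f)⟩

variable [QuasiCompact f] [QuasiSeparated f] (ι : Type (u + 1))

theorem preservesCoproducts_push : PreservesColimitsOfShape (Discrete ι) (EtCoh.push f) := by
  have : ∀ I : ι → EtCoh.Ab X, PreservesColimit (Discrete.functor I) (EtCoh.push f) := fun I => by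
    have : IsIso (sigmaComparison (EtCoh.push f) I) := isIso_of_affine_sections _ fun U hU => by
      haveI := hU
      obtain ⟨h1, h2⟩ := qcqs_bc f U
      haveI := preservesCoproducts_sectA ι U
      haveI := preservesCoproducts_sectA ι ((EtCoh.bc f).obj U)
      haveI : PreservesColimitsOfShape (Discrete ι) (EtCoh.push f ⋙ sectA S U) :=
        preservesColimitsOfShape_of_natIso (pushSectIso f U).symm
      have e : sigmaComparison (sectA S U) (fun j => (EtCoh.push f).obj (I j)) ≫
          (sectA S U).map (sigmaComparison (EtCoh.push f) I) =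
            sigmaComparison (EtCoh.push f ⋙ sectA S U) I :=
        Sigma.hom_ext _ _ fun j => by
          rw [ι_comp_sigmaComparison_assoc, ← Functor.map_comp, ι_comp_sigmaComparison]
          exact (ι_comp_sigmaComparison (EtCoh.push f ⋙ sectA S U) I j).symm
      haveI : IsIso (sigmaComparison (sectA S U) (fun j => (EtCoh.push f).obj (I j))) := inferInstance
      haveI : IsIso (sigmaComparison (sectA S U) (fun j => (EtCoh.push f).obj (I j)) ≫
          (sectA S U).map (sigmaComparison (EtCoh.push f) I)) := e ▸ inferInstance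
      exact IsIso.of_isIso_comp_left (sigmaComparison (sectA S U) fun j => (EtCoh.push f).obj (I j)) _
    exact PreservesCoproduct.of_iso_comparison _ _
  exact preservesColimitsOfShape_of_discrete _

/-- A colimit cocone transported along a natural transformation. -/
theorem isColimit_of_isIso_app {C : Type*} [Category C] {D : Type*} [Category D] {G G' : C ⥤ D}
    (τ : G ⟶ G') {J : Type*} [Category J] {K : J ⥤ C} (c : Cocone K)
    (h : Nonempty (IsColimit (G.mapCocone c))) (hK : ∀ j, IsIso (τ.app (K.obj j)))
    (hc : IsIso (τ.app c.pt)) : Nonempty (IsColimit (G'.mapCocone c)) := by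
  haveI : ∀ j, IsIso ((Functor.whiskerLeft K τ).app j) := hK
  haveI : IsIso (Functor.whiskerLeft K τ) := NatIso.isIso_of_isIso_app _
  obtain ⟨h⟩ := h
  refine ⟨(IsColimit.precomposeHomEquiv (asIso (Functor.whiskerLeft K τ)) _).1
    (IsColimit.ofIsoColimit h (Cocone.ext (asIso (τ.app c.pt)) fun j => ?_))⟩
  exact τ.naturality (c.ι.app j)

theorem preservesCoproducts_RpushEt [DCoh.HasRpushEt X f]
    (hX : ∀ U : X.Etale, CompactSpace ↥(U.left) → QuasiSeparatedSpace ↥(U.left) →
      ∃ d : ℕ, ∀ (F : EtCoh.Ab U.left) (q : ℕ), d < q → Subsingleton (EtCoh.H U.left F q)) :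
    PreservesColimitsOfShape (Discrete ι) (DCoh.RpushEt X f) := by
  haveI := preservesCoproducts_push f ι
  haveI : PreservesColimitsOfShape (Discrete ι)
      ((EtCoh.push f).mapHomologicalComplex (ComplexShape.up ℤ)) :=
    CohDer19.preservesColimitsOfShape_mapHomologicalComplex _ _
  have hob : ∀ K : ι → DerivedCategory (EtCoh.Ab X),
      PreservesColimit (Discrete.functor K) (DCoh.RpushEt X f) := fun K => by
    -- K-injective representatives with injective terms
    have hrep : ∀ j, ∃ I : CochainComplex (EtCoh.Ab X) ℤ, I.IsKInjective ∧ (∀ n, Injective (I.X n)) ∧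
        Nonempty (DerivedCategory.Q.obj I ≅ K j) := fun j => by
      obtain ⟨I, i, hi, hI, hinj⟩ := KInj.exists_kInjective_resolution (EtCoh.Ab X) (DerivedCategory.Q.objPreimage (K j))
      haveI := hi
      exact ⟨I, hI, hinj, ⟨(asIso (DerivedCategory.Q.map i)).symm ≪≫
        DerivedCategory.Q.objObjPreimageIso (K j)⟩⟩
    choose I hI hinj e using hrep
    let c : Cofan I := Cofan.mk (∐ I) (Sigma.ι I)
    let hc : IsColimit c := coproductIsCoproduct I
    let q := HomotopyCategory.quotient (EtCoh.Ab X) (ComplexShape.up ℤ)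
    let M := (EtCoh.push f).mapHomologicalComplex (ComplexShape.up ℤ)
    let U := (DCoh.pushEtKh X f).totalRightDerivedUnit DerivedCategory.Qh
      (HomotopyCategory.quasiIso (EtCoh.Ab X) (ComplexShape.up ℤ))
    let α : M ⋙ DerivedCategory.Q ≅ q ⋙ DCoh.pushEtKh X f :=
      Functor.isoWhiskerLeft M (DerivedCategory.quotientCompQhIso _).symm ≪≫
        (Functor.associator _ _ _).symm ≪≫
          Functor.isoWhiskerRight ((EtCoh.push f).mapHomotopyCategoryFactors (ComplexShape.up ℤ)).symm _ ≪≫
            Functor.associator _ _ _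
    let τ : M ⋙ DerivedCategory.Q ⟶ DerivedCategory.Q ⋙ DCoh.RpushEt X f :=
      α.hom ≫ Functor.whiskerLeft q U ≫
        (Functor.associator _ _ _).inv ≫
          Functor.whiskerRight (DerivedCategory.quotientCompQhIso _).hom (DCoh.RpushEt X f)
    have hτ : ∀ L : CochainComplex (EtCoh.Ab X) ℤ, CohDer19.Good.IsGood (EtCoh.push f) (q.obj L) →
        IsIso (τ.app L) := fun L hL => by
      haveI : IsIso (U.app (q.obj L)) := (CohDer19.Good.good_iff (EtCoh.push f) _).1 hL
      show IsIso (α.hom.app L ≫ U.app (q.obj L) ≫ 𝟙 _ ≫ (DCoh.RpushEt X f).map _)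
      infer_instance
    have hgI : ∀ j, CohDer19.Good.IsGood (EtCoh.push f) (q.obj (I j)) := fun j => by
      haveI := hI j
      exact CohDer19.Good.good_of_rightOrthogonal _ (CochainComplex.IsKInjective.rightOrthogonal (I j))
    have hgL : CohDer19.Good.IsGood (EtCoh.push f) (q.obj (∐ I)) := by
      obtain ⟨J, s, hs, hJ, hJinj⟩ := KInj.exists_kInjective_resolution (EtCoh.Ab X) (∐ I)
      haveI := hs
      haveI := hJ
      haveI hq : QuasiIso (M.map s) := by
        rw [DerCat.quasiIso_iff_acyclic_mappingCone]
        refine DerCat.acyclic_of_iso (CochainComplex.mappingCone.mapHomologicalComplexIso s (EtCoh.push f)) ?_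
        intro n
        rw [HomologicalComplex.exactAt_iff]
        refine exact_of_affine_sections _ fun U hU => ?_
        haveI := hU
        obtain ⟨h1, h2⟩ := qcqs_bc f U
        obtain ⟨d, hd⟩ := hX _ h1 h2
        let V := (EtCoh.bc f).obj U
        have hac := CohDim.acyclic_map (sectA X V) d (fun i hi F => isZero_rightDerived V d hd i hi F)
          (CochainComplex.mappingCone s) ((DerCat.quasiIso_iff_acyclic_mappingCone s).1 hs) fun i => ?_
        · exact (HomologicalComplex.exactAt_iff _ _).1 (hac n)
        · refine isAcyclicObj_of_iso _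
            (HomologicalComplex.homotopyCofiber.XIsoBiprod s i (i + 1) (by simp)).symm
            (isAcyclicObj_biprod _ ?_ (haveI := hJinj i; isAcyclicObj_of_injective _ _))
          exact isAcyclicObj_of_iso _
            (PreservesCoproduct.iso (HomologicalComplex.eval (EtCoh.Ab X) (ComplexShape.up ℤ) (i + 1)) I).symm
            (isAcyclicObj_sigma ι V (fun j => (I j).X (i + 1)) fun j => hinj j _)
      haveI : IsIso (DerivedCategory.Qh.map (q.map s)) :=
        (NatIso.isIso_map_iff (DerivedCategory.quotientCompQhIso (EtCoh.Ab X)) s).2 inferInstance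
      haveI : IsIso ((CohDer19.Good.mapD (EtCoh.push f)).map (q.map s)) :=
        (NatIso.isIso_map_iff (DerivedCategory.quotientCompQhIso (EtCoh.Ab S)) (M.map s)).2 inferInstance
      exact (CohDer19.Good.good_iff_of_isIso _ (q.map s)).2
        (CohDer19.Good.good_of_rightOrthogonal _ (CochainComplex.IsKInjective.rightOrthogonal J))
    have hQ : IsColimit (DerivedCategory.Q.mapCocone c) := isColimitOfPreserves _ hc
    obtain ⟨hR⟩ := isColimit_of_isIso_app τ c
      ⟨isColimitOfPreserves DerivedCategory.Q (isColimitOfPreserves M hc)⟩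
      (fun j => hτ _ (hgI j.as)) (hτ _ hgL)
    haveI : PreservesColimit (Discrete.functor I ⋙ DerivedCategory.Q) (DCoh.RpushEt X f) :=
      preservesColimit_of_preserves_colimit_cocone hQ hR
    exact preservesColimit_of_iso_diagram (K₁ := Discrete.functor I ⋙ DerivedCategory.Q) _
      (Discrete.natIso fun j => (e j.as).some)
  exact preservesColimitsOfShape_of_discrete _

end GrothLib.RpushCoprod13
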