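import Groth.Agent.Lib.EtColim.Cohomology
import Groth.Agent.Lib.EtLimit.StalkRpush
import Groth.Agent.Lib.EtDer.Injective
import Groth.Agent.Lib.CohDer19.CohDim
import Groth.Agent.Lib.CohDer19.Good
import Groth.Agent.Lib.ExtZero.Open
import Groth.Agent.Lib.EtSite.Points

/-!
# Sections over quasi-compact quasi-separated étale schemes: acyclicity and coproducts
-/

set_option autoImplicit false
set_option backward.isDefEq.respectTransparency false
set_option linter.style.haveILetI false

universe u

open CategoryTheory CategoryTheory.Limits AlgebraicGeometry Opposite Abelian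
open GrothLib.GrothSS

noncomputable section

namespace GrothLib.RpushCoprod13

variable {X S : Scheme.{u}}

/-- Sections over an object of the small étale site. -/
abbrev sectA (X : Scheme.{u}) (V : X.Etale) : EtCoh.Ab X ⥤ AddCommGrpCat.{u + 1} :=
  (sheafSections X.smallEtaleTopology AddCommGrpCat.{u + 1}).obj (op V)

instance additive_sectA (V : X.Etale) : (sectA X V).Additive where
  map_add := rfl

instance preservesFiniteLimits_sectA (V : X.Etale) : PreservesFiniteLimits (sectA X V) :=
  haveI : PreservesLimitsOfSize.{0, 0} (sheafToPresheaf X.smallEtaleTopology AddCommGrpCat.{u + 1}) :=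
    (sheafificationAdjunction X.smallEtaleTopology AddCommGrpCat.{u + 1}).rightAdjoint_preservesLimits
  comp_preservesFiniteLimits (sheafToPresheaf _ _) ((evaluation _ _).obj (op V))

/-- Global sections of the restriction are sections. -/
theorem nonempty_pull_gsec_iso (V : X.Etale) :
    Nonempty (EtCoh.pull V.hom ⋙ EtCore.gsec V.left ≅ sectA X V) := by
  haveI : Etale V.hom := V.prop
  haveI := GrothLib.Constructible.jcont V.hom
  let e : (EtShriek.compEtale V.hom).obj (EtCoh.top V.left) ≅ V :=
    MorphismProperty.Over.isoMk (Iso.refl _)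
      (by show 𝟙 V.left ≫ V.hom = 𝟙 V.left ≫ V.hom; rfl)
  exact ⟨Functor.isoWhiskerRight (GrothLib.ExtZero.restrIsoPull V.hom).symm (EtCore.gsec V.left) ≪≫
    NatIso.ofComponents (fun F => F.obj.mapIso e.op.symm) (fun {F G} φ => (φ.hom.naturality _).symm)⟩

theorem nonempty_rightDerived_iso (V : X.Etale) (n : ℕ) :
    Nonempty (EtCoh.pull V.hom ⋙ EtCoh.HF V.left n ≅ (sectA X V).rightDerived n) := by
  haveI : Etale V.hom := V.prop
  haveI := GrothLib.EtSite.pull_preservesFiniteLimits V.hom
  haveI : PreservesFiniteColimits (EtCoh.pull V.hom) :=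
    haveI : PreservesColimitsOfSize.{0, 0} (EtCoh.pull V.hom) :=
      (EtCoh.pullPushAdj V.hom).leftAdjoint_preservesColimits
    PreservesColimitsOfSize.preservesFiniteColimits _
  obtain ⟨r⟩ := GrothLib.EtLimit.nonempty_HX_iso V.left n
  obtain ⟨r₀⟩ := GrothLib.EtLimit.nonempty_HX_iso V.left 0
  obtain ⟨e'⟩ := GrothLib.EtLimit.nonempty_HF_zero_iso V.left
  obtain ⟨θ⟩ := nonempty_pull_gsec_iso V
  obtain ⟨e⟩ := GrothLib.CechUniv.nonempty_extFunctor_iso_rightDerived (EtCoh.pull V.hom)
    (GrothLib.EtColim.Z V.left) (sectA X V)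
    (fun I hI m => by
      haveI := hI
      haveI := GrothLib.EtDer.injective_pull_etale V.hom I
      exact subsingleton_of_forall_eq 0 fun x => Ext.eq_zero_of_injective x)
    (Functor.isoWhiskerLeft (EtCoh.pull V.hom) (r₀ ≪≫ e') ≪≫ θ) n
  exact ⟨Functor.isoWhiskerLeft (EtCoh.pull V.hom) r.symm ≪≫ e⟩

/-- A bound on cohomology bounds the derived functors of sections. -/
theorem isZero_rightDerived (V : X.Etale) (d : ℕ)
    (hd : ∀ (F : EtCoh.Ab V.left) (q : ℕ), d < q → Subsingleton (EtCoh.H V.left F q))
    (i : ℕ) (hi : d + 1 ≤ i) (F : EtCoh.Ab X) : IsZero (((sectA X V).rightDerived i).obj F) := by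
  obtain ⟨e⟩ := nonempty_rightDerived_iso V i
  haveI := hd ((EtCoh.pull V.hom).obj F) i hi
  haveI : Subsingleton ↑((EtCoh.HF V.left i).obj ((EtCoh.pull V.hom).obj F)) :=
    inferInstanceAs (Subsingleton (EtCoh.H V.left ((EtCoh.pull V.hom).obj F) i))
  exact (show IsZero ((EtCoh.pull V.hom ⋙ EtCoh.HF V.left i).obj F) from
    @AddCommGrpCat.isZero_of_subsingleton ((EtCoh.HF V.left i).obj ((EtCoh.pull V.hom).obj F)) ‹_›).of_iso
      (e.app F).symm

variable (ι : Type (u + 1))

theorem preservesCoproducts_rightDerived (V : X.Etale) [CompactSpace ↥V.left]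
    [QuasiSeparatedSpace ↥V.left] (n : ℕ) :
    PreservesColimitsOfShape (Discrete ι) ((sectA X V).rightDerived n) := by
  obtain ⟨e⟩ := nonempty_rightDerived_iso V n
  haveI : PreservesColimitsOfShape (Finset (Discrete ι)) (EtCoh.HF V.left n) :=
    GrothLib.EtColim.preservesColimitsOfShape_HF n
  haveI : PreservesColimitsOfShape (Discrete ι) (EtCoh.HF V.left n) :=
    GrothLib.CohDer19.preservesColimitsOfShape_discrete _
  haveI : PreservesColimitsOfShape (Discrete ι) (EtCoh.pull V.hom) :=
    haveI : PreservesColimitsOfSize.{u + 1, u + 1} (EtCoh.pull V.hom) :=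
      (EtCoh.pullPushAdj V.hom).leftAdjoint_preservesColimits
    PreservesColimitsOfSize.preservesColimitsOfShape
  exact preservesColimitsOfShape_of_natIso e

theorem preservesCoproducts_sectA (V : X.Etale) [CompactSpace ↥V.left] [QuasiSeparatedSpace ↥V.left] :
    PreservesColimitsOfShape (Discrete ι) (sectA X V) :=
  haveI := preservesCoproducts_rightDerived ι V 0
  preservesColimitsOfShape_of_natIso (sectA X V).rightDerivedZeroIsoSelf

theorem isAcyclicObj_sigma (V : X.Etale) [CompactSpace ↥V.left] [QuasiSeparatedSpace ↥V.left]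
    (I : ι → EtCoh.Ab X) (hI : ∀ j, Injective (I j)) : IsAcyclicObj (sectA X V) (∐ I) := by
  intro k
  haveI := preservesCoproducts_rightDerived ι V (k + 1)
  refine IsZero.of_iso ?_ (PreservesCoproduct.iso ((sectA X V).rightDerived (k + 1)) I)
  refine (IsZero.iff_id_eq_zero _).2 (Sigma.hom_ext _ _ fun j => ?_)
  haveI := hI j
  exact ((sectA X V).isZero_rightDerived_obj_injective_succ k (I j)).eq_of_src _ _

/-- An affine open as an object of the site. -/
abbrev affObj (U : S.Etale) (W : U.left.affineOpens) : S.Etale :=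
  MorphismProperty.Over.mk (P := EtCoh.etaleMP.{u}) ⊤ (W.1.ι ≫ U.hom)
    (haveI : Etale U.hom := U.prop; inferInstanceAs (Etale (W.1.ι ≫ U.hom)))

/-- An affine open as a morphism of the site. -/
abbrev affHom (U : S.Etale) (W : U.left.affineOpens) : affObj U W ⟶ U :=
  MorphismProperty.Over.homMk W.1.ι rfl trivial

/-- Affine objects cover. -/
theorem cover_affine (U : S.Etale) :
    Sieve.generate (Presieve.ofArrows
      (fun W : U.left.affineOpens => affObj U W) (affHom U)) ∈ S.smallEtaleTopology U := by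
  refine (GrothLib.EtSite.mem_topology_iff _).2 fun y => ?_
  obtain ⟨W, hW, hy, -⟩ := AlgebraicGeometry.exists_isAffineOpen_mem_and_subset
    (x := y) (U := (⊤ : U.left.Opens)) trivial
  exact ⟨_, _, (⟨y, hy⟩ : W), ⟨_, 𝟙 _, _, Presieve.ofArrows.mk ⟨W, hW⟩, Category.id_comp _⟩, rfl⟩

/-- Isomorphisms of sheaves are detected on sections over affine objects. -/
theorem isIso_of_affine_sections {F G : EtCoh.Ab S} (φ : F ⟶ G)
    (h : ∀ U : S.Etale, IsAffine U.left → IsIso ((sectA S U).map φ)) : IsIso φ := by
  refine (Sheaf.isLocallyBijective_iff_isIso φ).1 ⟨?_, ?_⟩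
  · exact ⟨fun {X} x y hxy => by
      refine S.smallEtaleTopology.superset_covering ?_ (cover_affine X.unop)
      rintro T _ ⟨_, a, _, ⟨W⟩, rfl⟩
      change F.obj.map (a ≫ affHom _ W).op x = F.obj.map (a ≫ affHom _ W).op y
      rw [op_comp, Functor.map_comp_apply, Functor.map_comp_apply]
      refine congrArg _ ?_
      haveI := h (affObj X.unop W) W.2
      refine (ConcreteCategory.bijective_of_isIso ((sectA S _).map φ)).1 ?_
      show φ.hom.app _ (F.obj.map _ x) = φ.hom.app _ (F.obj.map _ y)
      rw [NatTrans.naturality_apply, NatTrans.naturality_apply, hxy]⟩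
  · exact ⟨fun {U} s => by
      refine S.smallEtaleTopology.superset_covering ?_ (cover_affine U)
      rintro T _ ⟨_, a, _, ⟨W⟩, rfl⟩
      haveI := h (affObj U W) W.2
      obtain ⟨t, ht⟩ := (ConcreteCategory.bijective_of_isIso ((sectA S (affObj U W)).map φ)).2
        (G.obj.map (affHom U W).op s)
      refine ⟨F.obj.map a.op t, ?_⟩
      rw [NatTrans.naturality_apply, op_comp, Functor.map_comp_apply]
      exact congrArg _ ht⟩

/-- Exactness of sheaves is detected on sections over affine objects. -/
theorem exact_of_affine_sections (T : ShortComplex (EtCoh.Ab S))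
    (h : ∀ U : S.Etale, IsAffine U.left → (T.map (sectA S U)).Exact) : T.Exact := by
  rw [ShortComplex.exact_iff_epi_kernel_lift]
  refine (Sheaf.isLocallySurjective_iff_epi' _ _).1 ⟨fun {U} s => by
    refine S.smallEtaleTopology.superset_covering ?_ (cover_affine U)
    rintro V _ ⟨_, a, _, ⟨W⟩, rfl⟩
    let m := affHom U W
    have hex := (ShortComplex.ab_exact_iff _).1 (h (affObj U W) W.2)
    let z := (kernel T.g).obj.map m.op s
    have hz : ((sectA S _).map T.g) ((sectA S _).map (kernel.ι T.g) z) = 0 := by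
      rw [← ConcreteCategory.comp_apply, ← Functor.map_comp, kernel.condition, Functor.map_zero]
      rfl
    obtain ⟨t, ht⟩ := hex _ hz
    refine ⟨T.X₁.obj.map a.op t, ?_⟩
    rw [NatTrans.naturality_apply, op_comp, Functor.map_comp_apply]
    refine congrArg _ ?_
    refine (AddCommGrpCat.mono_iff_injective ((sectA S _).map (kernel.ι T.g))).1 inferInstance ?_
    refine Eq.trans ?_ ht
    exact congrArg (fun q : T.X₁ ⟶ T.X₂ => (q.hom.app (op (affObj U W))) t) (kernel.lift_ι T.g T.f T.zero)⟩

end GrothLib.RpushCoprod13
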